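import Cfsg.Agent.Lib.Helper44.FW.Defs

/-!
# FW package [INVOL] (S3211)

Every involution of `C(j)` other than `j` is `x * y` with `x ∈ L₁`, `y ∈ L₂`, `x² = y² = j`.
-/

set_option autoImplicit false

namespace Cfsg.Agent.Lib.Helper88.FW

open Cfsg.Agent.Lib.Helper44.FW

universe u

section

variable {G : Type u} [Group G]

/-- The product set of two elementwise commuting subgroups, as a subgroup. -/
def invProd (L₁ L₂ : Subgroup G) (h : ∀ x ∈ L₁, ∀ y ∈ L₂, x * y = y * x) : Subgroup G where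
  carrier := {r | ∃ x ∈ L₁, ∃ y ∈ L₂, r = x * y}
  one_mem' := ⟨1, one_mem _, 1, one_mem _, (mul_one 1).symm⟩
  mul_mem' := by
    rintro _ _ ⟨x, hx, y, hy, rfl⟩ ⟨x', hx', y', hy', rfl⟩
    refine ⟨x * x', mul_mem hx hx', y * y', mul_mem hy hy', ?_⟩
    calc x * y * (x' * y') = x * (y * x') * y' := by group
      _ = x * (x' * y) * y' := by rw [h x' hx' y hy]
      _ = x * x' * (y * y') := by group
  inv_mem' := by
    rintro _ ⟨x, hx, y, hy, rfl⟩
    refine ⟨x⁻¹, inv_mem hx, y⁻¹, inv_mem hy, ?_⟩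
    rw [mul_inv_rev]
    exact (h x⁻¹ (inv_mem hx) y⁻¹ (inv_mem hy)).symm

theorem inv_mem_sup {L₁ L₂ : Subgroup G} (h : ∀ x ∈ L₁, ∀ y ∈ L₂, x * y = y * x) {r : G}
    (hr : r ∈ L₁ ⊔ L₂) : ∃ x ∈ L₁, ∃ y ∈ L₂, r = x * y := by
  have hle : L₁ ⊔ L₂ ≤ invProd L₁ L₂ h :=
    sup_le (fun x hx => ⟨x, hx, 1, one_mem _, (mul_one x).symm⟩)
      (fun y hy => ⟨1, one_mem _, y, hy, (one_mul y).symm⟩)
  exact hle hr

theorem inv_zpowers {j : G} (hj : j * j = 1) {x : G} (hx : x ∈ Subgroup.zpowers j) :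
    x = 1 ∨ x = j := by
  obtain ⟨k, rfl⟩ := Subgroup.mem_zpowers_iff.mp hx
  rcases Int.emod_two_eq_zero_or_one k with h | h
  · left
    have hk : k = 2 * (k / 2) := by omega
    rw [hk, zpow_mul, zpow_ofNat, sq, hj, one_zpow]
  · right
    have hk : k = 2 * (k / 2) + 1 := by omega
    rw [hk, zpow_add, zpow_mul, zpow_ofNat, sq, hj, one_zpow, one_mul, zpow_one]

/-- [INVOL] -/
theorem pkgInvol : PkgInvol.{u} := by
  intro G _ L₁ L₂ j n cfg h1 h2 r hrC hr2 hr1 hrj
  have hjj : j * j = 1 := by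
    have h := pow_orderOf_eq_one j
    rw [cfg.ord, sq] at h
    exact h
  have hj1 : j ≠ 1 := by
    intro h
    have h' := cfg.ord
    rw [h, orderOf_one] at h'
    omega
  have hjinv : j⁻¹ = j := inv_eq_of_mul_eq_one_right hjj
  have hjmem : j ∈ L₁ ⊓ L₂ := by
    rw [cfg.meet]
    exact Subgroup.mem_zpowers j
  have hjL₂ : j ∈ L₂ := hjmem.2
  have hcent : ∀ g ∈ Subgroup.centralizer ({j} : Set G), g * j = j * g := by
    intro g hg
    exact (Subgroup.mem_centralizer_iff.mp hg j (Set.mem_singleton j)).symm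
  have hL₁C : L₁ ≤ Subgroup.centralizer ({j} : Set G) := le_sup_left.trans cfg.le
  have hL₂C : L₂ ≤ Subgroup.centralizer ({j} : Set G) := le_sup_right.trans cfg.le
  have hmeet : ∀ x, x ∈ L₁ → x ∈ L₂ → x = 1 ∨ x = j := by
    intro x hx1 hx2
    have hx : x ∈ L₁ ⊓ L₂ := ⟨hx1, hx2⟩
    rw [cfg.meet] at hx
    exact inv_zpowers hjj hx
  by_cases hrY : r ∈ L₁ ⊔ L₂
  · obtain ⟨x, hx, y, hy, hrxy⟩ := inv_mem_sup cfg.comm hrY
    have hxy := cfg.comm x hx y hy
    have hsq : x ^ 2 * y ^ 2 = 1 := by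
      rw [← hr2, hrxy, sq, sq, sq]
      calc x * x * (y * y) = x * (x * y) * y := by group
        _ = x * (y * x) * y := by rw [hxy]
        _ = x * y * (x * y) := by group
    have hx2L₂ : x ^ 2 ∈ L₂ := by
      have h3 : x ^ 2 = (y ^ 2)⁻¹ := eq_inv_of_mul_eq_one_left hsq
      rw [h3]
      exact inv_mem (pow_mem hy 2)
    rcases hmeet (x ^ 2) (pow_mem hx 2) hx2L₂ with hx2 | hx2
    · exfalso
      have hy2 : y ^ 2 = 1 := by
        rw [hx2, one_mul] at hsq
        exact hsq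
      rcases h1 x hx hx2 with hx1 | hxj <;> rcases h2 y hy hy2 with hy1 | hyj
      · exact hr1 (by rw [hrxy, hx1, hy1, mul_one])
      · exact hrj (by rw [hrxy, hx1, hyj, one_mul])
      · exact hrj (by rw [hrxy, hxj, hy1, mul_one])
      · exact hr1 (by rw [hrxy, hxj, hyj, hjj])
    · refine ⟨x, hx, y, hy, hrxy, hx2, ?_⟩
      rw [hx2] at hsq
      have h3 : y ^ 2 = j⁻¹ := eq_inv_of_mul_eq_one_right hsq
      rw [h3, hjinv]
  · exfalso
    have hswap : ∀ x ∈ L₁, n * x * n⁻¹ ∈ L₂ := by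
      intro x hx
      rw [← cfg.swap]
      exact ⟨x, hx, rfl⟩
    have hnj : n * j = j * n := hcent n cfg.hn
    have hn2 : n * n = j := by
      rw [← sq]
      exact cfg.hn2
    have hswap' : ∀ y ∈ L₂, n * y * n⁻¹ ∈ L₁ := by
      intro y hy
      rw [← cfg.swap] at hy
      obtain ⟨x, hx, rfl⟩ := hy
      have hxj := hcent x (hL₁C hx)
      have h3 : n * (n * x * n⁻¹) * n⁻¹ = x := by
        calc n * (n * x * n⁻¹) * n⁻¹ = n * n * x * (n * n)⁻¹ := by group
          _ = j * x * j⁻¹ := by rw [hn2]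
          _ = x := by rw [← hxj, mul_inv_cancel_right]
      show n * (n * x * n⁻¹) * n⁻¹ ∈ L₁
      rw [h3]
      exact hx
    have hnY : n ∉ L₁ ⊔ L₂ := by
      intro hn
      obtain ⟨a, ha, b, hb, hab⟩ := inv_mem_sup cfg.comm hn
      have hL₂L₁ : ∀ y ∈ L₂, y ∈ L₁ := by
        intro y hy
        rw [← cfg.swap] at hy
        obtain ⟨x, hx, rfl⟩ := hy
        show n * x * n⁻¹ ∈ L₁
        have hbx : b * x = x * b := (cfg.comm x hx b hb).symm
        have h3 : n * x * n⁻¹ = a * x * a⁻¹ := by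
          rw [hab]
          calc a * b * x * (a * b)⁻¹ = a * (b * x) * b⁻¹ * a⁻¹ := by group
            _ = a * (x * b) * b⁻¹ * a⁻¹ := by rw [hbx]
            _ = a * x * a⁻¹ := by group
        rw [h3]
        exact mul_mem (mul_mem ha hx) (inv_mem ha)
      have hb' := hmeet b (hL₂L₁ b hb) hb
      have ha' : a = 1 ∨ a = j := by
        have h3 := hswap a ha
        have h5 : a = n⁻¹ * (n * a * n⁻¹) * n := by group
        rcases hmeet _ (hL₂L₁ _ h3) h3 with h4 | h4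
        · left
          rw [h5, h4]
          group
        · right
          rw [h5, h4, mul_assoc, ← hnj, inv_mul_cancel_left]
      have hn2' : n * n = 1 := by
        rw [hab]
        rcases ha' with h5 | h5 <;> rcases hb' with h6 | h6 <;> rw [h5, h6] <;> simp [hjj]
      rw [hn2'] at hn2
      exact hj1 hn2.symm
    have hidx : ((L₁ ⊔ L₂).subgroupOf (Subgroup.centralizer ({j} : Set G))).index = 2 := cfg.idx
    have hw : n⁻¹ * r ∈ L₁ ⊔ L₂ := by
      have h3 := Subgroup.mul_mem_iff_of_index_two hidx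
        (a := (⟨n⁻¹, inv_mem cfg.hn⟩ : Subgroup.centralizer ({j} : Set G))) (b := ⟨r, hrC⟩)
      have h4 : n⁻¹ * r ∈ L₁ ⊔ L₂ ↔ (n⁻¹ ∈ L₁ ⊔ L₂ ↔ r ∈ L₁ ⊔ L₂) := h3
      apply h4.mpr
      constructor
      · intro h
        exact absurd (inv_mem_iff.mp h) hnY
      · intro h
        exact absurd h hrY
    obtain ⟨u, hu, v, hv, huv⟩ := inv_mem_sup cfg.comm hw
    have hr : r = n * (u * v) := by
      rw [← huv]
      group
    have huC := hcent u (hL₁C hu)
    have hvC := hcent v (hL₂C hv)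
    have hu' : n * u * n⁻¹ ∈ L₂ := hswap u hu
    have hv' : n * v * n⁻¹ ∈ L₁ := hswap' v hv
    have h4 : (n * u * n⁻¹) * (n * v * n⁻¹) * j * u * v = 1 := by
      rw [← hr2, hr, ← hn2, sq]
      group
    have h5 : (n * v * n⁻¹) * u = (n * u * n⁻¹)⁻¹ * v⁻¹ * j⁻¹ := by
      have h4' : (n * u * n⁻¹) * (n * v * n⁻¹) * (u * j) * v = 1 := by
        rw [huC, ← h4]
        group
      calc (n * v * n⁻¹) * u
          = (n * u * n⁻¹)⁻¹ * ((n * u * n⁻¹) * (n * v * n⁻¹) * (u * j) * v) * v⁻¹ * j⁻¹ := by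
            group
        _ = (n * u * n⁻¹)⁻¹ * v⁻¹ * j⁻¹ := by
            rw [h4']
            group
    have hε₂ : (n * v * n⁻¹) * u ∈ L₂ := by
      rw [h5]
      exact mul_mem (mul_mem (inv_mem hu') (inv_mem hv)) (inv_mem hjL₂)
    have hε₁ : (n * v * n⁻¹) * u ∈ L₁ := mul_mem hv' hu
    have hcuv : (u * v) * j = j * (u * v) := by
      rw [mul_assoc, hvC, ← mul_assoc, huC, mul_assoc]
    have h6 : (n * u * n⁻¹) * ((n * v * n⁻¹) * u) * v * j = 1 := by
      rw [← h4]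
      calc (n * u * n⁻¹) * ((n * v * n⁻¹) * u) * v * j
          = (n * u * n⁻¹) * (n * v * n⁻¹) * ((u * v) * j) := by group
        _ = (n * u * n⁻¹) * (n * v * n⁻¹) * (j * (u * v)) := by rw [hcuv]
        _ = (n * u * n⁻¹) * (n * v * n⁻¹) * j * u * v := by group
    rcases hmeet _ hε₁ hε₂ with hε | hε
    · have hv_eq : v = n⁻¹ * u⁻¹ * n := by
        calc v = n⁻¹ * ((n * v * n⁻¹) * u) * u⁻¹ * n := by group
          _ = n⁻¹ * u⁻¹ * n := by
            rw [hε]
            group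
      have hu'v : (n * u * n⁻¹) * v = 1 := by
        have hcu : u * (n * n)⁻¹ = (n * n)⁻¹ * u := by
          rw [hn2]
          have hc : Commute u j := huC
          exact hc.inv_right.eq
        rw [hv_eq]
        calc n * u * n⁻¹ * (n⁻¹ * u⁻¹ * n) = n * (u * (n * n)⁻¹) * u⁻¹ * n := by group
          _ = n * ((n * n)⁻¹ * u) * u⁻¹ * n := by rw [hcu]
          _ = 1 := by group
      rw [hε, mul_one, hu'v, one_mul] at h6
      exact hj1 h6
    · have hv_eq : v = n * u⁻¹ * n := by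
        calc v = n⁻¹ * ((n * v * n⁻¹) * u) * u⁻¹ * n := by group
          _ = n⁻¹ * (n * n) * u⁻¹ * n := by rw [hε, hn2]
          _ = n * u⁻¹ * n := by group
      have hu'v : (n * u * n⁻¹) * v = j := by
        rw [hv_eq, ← hn2]
        group
      rw [hε] at h6
      have h7 : (n * u * n⁻¹) * j * v * j = j := by
        calc (n * u * n⁻¹) * j * v * j = (n * u * n⁻¹) * (j * v) * j := by group
          _ = (n * u * n⁻¹) * (v * j) * j := by rw [hvC]
          _ = ((n * u * n⁻¹) * v) * (j * j) := by group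
          _ = j := by rw [hu'v, hjj, mul_one]
      rw [h7] at h6
      exact hj1 h6

end

end Cfsg.Agent.Lib.Helper88.FW
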